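import Cfsg.Prelude.Def_Spor_J4
import Cfsg.Agent.Lib.Sporadic.BitMatrix
import Cfsg.Agent.Lib.Sporadic.CosetCertCox
import Cfsg.Agent.Lib.Sporadic.J4Rep.Data

/-!
# Kernel checks on the matrices of degree 112
-/

set_option autoImplicit false
set_option maxRecDepth 100000

namespace CfsgLib.Sporadic.J4Rep

open BitMatrix CosetCert Cfsg.Spor

/-- Codes of the generators. -/
def codeJ : J4.Gen → ℕ
  | .x => 0 | .y => 1 | .t => 3

/-- Codes of their inverses. -/
def cinvJ : J4.Gen → ℕ
  | .x => 0 | .y => 2 | .t => 3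

/-- The matrix of a letter. -/
def lett (k : ℕ) : List ℕ := [mX, mY, mYi, mT].getD k (BitMatrix.one 112)

theorem oks : ∀ k < 4, ok 112 (lett k) = true := by decide +kernel

theorem invs : isOne 112 [mX, mX] = true ∧ isOne 112 [mY, mYi] = true ∧ isOne 112 [mYi, mY] = true ∧
    isOne 112 [mT, mT] = true := by decide +kernel

theorem relsJ : ∀ i < 12,
    isOne 112 ((appWord codeJ cinvJ (J4.extra.getD i 1)).reverse.map lett) = true := by decide +kernel

theorem x_entry : ((lett 0).getD 0 0).testBit 5 = true := by decide +kernel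

end CfsgLib.Sporadic.J4Rep
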